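import Mathlib

/-! Smooth algebras over a filtered colimit come from some stage. -/

namespace Groth.Agent.SmoothStage

open CategoryTheory CategoryTheory.Limits TensorProduct

universe u

lemma ext_uliftInt {S : Type u} [Semiring S] (f g : ULift.{u} ℤ →+* S) : f = g := by
  have h := RingHom.ext_int (f.comp (ULift.ringEquiv : ULift.{u} ℤ ≃+* ℤ).symm.toRingHom)
    (g.comp (ULift.ringEquiv : ULift.{u} ℤ ≃+* ℤ).symm.toRingHom)
  ext ⟨n⟩
  exact DFunLike.congr_fun h n

theorem main {I : Type u} [SmallCategory I] [IsFiltered I]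
    (D : I ⥤ CommRingCat.{u}) (c : Cocone D) (hc : IsColimit c) (B : Type u) [CommRing B]
    [Algebra c.pt B] [Algebra.Smooth c.pt B] :
    ∃ (i : I) (Bi : Type u) (_ : CommRing Bi) (_ : Algebra (D.obj i) Bi),
      Algebra.Smooth (D.obj i) Bi ∧
      (letI : Algebra (D.obj i) c.pt := (c.ι.app i).hom.toAlgebra
       Nonempty (B ≃ₐ[c.pt] (c.pt ⊗[D.obj i] Bi))) := by
  obtain ⟨A₀, B₀, _, _, _, _, _, -, hft, hsm, ⟨e⟩⟩ :=
    Algebra.Smooth.exists_finiteType (R := ℤ) (A := c.pt) (B := B)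
  let Z : CommRingCat.{u} := CommRingCat.of (ULift.{u} ℤ)
  let α : (Functor.const I).obj Z ⟶ D :=
    { app := fun i => CommRingCat.ofHom ((Int.castRingHom (D.obj i)).comp
        (ULift.ringEquiv : ULift.{u} ℤ ≃+* ℤ).toRingHom)
      naturality := fun i j φ => by
        ext1
        exact ext_uliftInt _ _ }
  let f : Z ⟶ CommRingCat.of A₀ :=
    CommRingCat.ofHom ((Int.castRingHom A₀).comp (ULift.ringEquiv : ULift.{u} ℤ ≃+* ℤ).toRingHom)
  haveI : Algebra.FinitePresentation ℤ A₀ := Algebra.FinitePresentation.of_finiteType.mp hft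
  have hf : f.hom.FinitePresentation := by
    have h1 : (algebraMap ℤ A₀).FinitePresentation := RingHom.finitePresentation_algebraMap.mpr ‹_›
    exact RingHom.FinitePresentation.comp (RingHom.ext_int (algebraMap ℤ A₀) (Int.castRingHom A₀) ▸ h1)
      (RingHom.FinitePresentation.of_bijective (ULift.ringEquiv : ULift.{u} ℤ ≃+* ℤ).bijective)
  obtain ⟨i, g, -, hg⟩ := RingHom.EssFiniteType.exists_eq_comp_ι_app_of_isColimit Z D α f c hc hf
    (CommRingCat.ofHom (algebraMap A₀ c.pt)) (fun i => by ext1; exact ext_uliftInt _ _)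
  letI : Algebra A₀ (D.obj i) := g.hom.toAlgebra
  letI : Algebra (D.obj i) c.pt := (c.ι.app i).hom.toAlgebra
  haveI : IsScalarTower A₀ (D.obj i) c.pt := IsScalarTower.of_algebraMap_eq' (by
    have := congrArg CommRingCat.Hom.hom hg
    rw [CommRingCat.hom_ofHom, CommRingCat.hom_comp] at this
    exact this)
  haveI := hsm
  refine ⟨i, (D.obj i) ⊗[A₀] B₀, inferInstance, inferInstance, inferInstance, ⟨e.trans ?_⟩⟩
  exact (Algebra.TensorProduct.cancelBaseChange A₀ (D.obj i) c.pt c.pt B₀).symm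

end Groth.Agent.SmoothStage
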